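import Groth.Agent.L06.Lie.Rings

/-!
# The group law of the Lie algebra of a group scheme
-/

set_option autoImplicit false
set_option maxSynthPendingDepth 3
set_option linter.style.haveILetI false
set_option backward.isDefEq.respectTransparency.types false
set_option backward.isDefEq.respectTransparency false

universe u

noncomputable section

open CategoryTheory MonoidalCategory CartesianMonoidalCategory MonObj GrpObj AlgebraicGeometry Opposite

namespace Groth.L06.Lie

open LieS Groth.L20.Pinch Groth.L09.Patch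

variable {S : Scheme.{u}}

/-- A morphism of affine `S`-schemes given by a ring map. -/
abbrev spH {C D : Type u} [CommRing C] [CommRing D] {c : Spec (CommRingCat.of C) ⟶ S}
    {d : Spec (CommRingCat.of D) ⟶ S} (φ : D →+* C) (h : sp φ ≫ d = c) :
    Over.mk c ⟶ Over.mk d :=
  Over.homMk (sp φ) h


/-- Gluing of points along a fibre product of rings. -/
theorem exists_glue {T T1 T2 T0 : Type u} [CommRing T] [CommRing T1] [CommRing T2] [CommRing T0]
    {φ1 : T →+* T1} {φ2 : T →+* T2} {ψ1 : T1 →+* T0} {ψ2 : T2 →+* T0}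
    (h : IsFib φ1 φ2 ψ1 ψ2) {c : Spec (CommRingCat.of T) ⟶ S}
    {c1 : Spec (CommRingCat.of T1) ⟶ S} {c2 : Spec (CommRingCat.of T2) ⟶ S}
    {c0 : Spec (CommRingCat.of T0) ⟶ S}
    (a1 : Over.mk c1 ⟶ Over.mk c) (a2 : Over.mk c2 ⟶ Over.mk c)
    (b1 : Over.mk c0 ⟶ Over.mk c1) (b2 : Over.mk c0 ⟶ Over.mk c2)
    (ha1 : a1.left = sp φ1) (ha2 : a2.left = sp φ2)
    (hb1 : b1.left = sp ψ1) (hb2 : b2.left = sp ψ2)
    {X : Over S} (u : Over.mk c1 ⟶ X) (v : Over.mk c2 ⟶ X) (huv : b1 ≫ u = b2 ≫ v) :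
    ∃ w : Over.mk c ⟶ X, a1 ≫ w = u ∧ a2 ≫ w = v := by
  have e : sp ψ1 ≫ u.left = sp ψ2 ≫ v.left := by
    rw [← hb1, ← hb2]
    exact congrArg CommaMorphism.left huv
  obtain ⟨H, h1, h2⟩ := h.exists_desc_hom u.left v.left e
  have hH : H ≫ X.hom = c := by
    refine h.hom_ext_spec _ _ ?_ ?_
    · rw [← Category.assoc, h1, ← ha1]
      exact (Over.w u).trans (Over.w a1).symm
    · rw [← Category.assoc, h2, ← ha2]
      exact (Over.w v).trans (Over.w a2).symm
  refine ⟨Over.homMk H hH, Over.OverMorphism.ext ?_, Over.OverMorphism.ext ?_⟩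
  · show a1.left ≫ H = u.left
    rw [ha1, h1]
  · show a2.left ≫ H = v.left
    rw [ha2, h2]

theorem glue_hom_ext {T T1 T2 T0 : Type u} [CommRing T] [CommRing T1] [CommRing T2] [CommRing T0]
    {φ1 : T →+* T1} {φ2 : T →+* T2} {ψ1 : T1 →+* T0} {ψ2 : T2 →+* T0}
    (h : IsFib φ1 φ2 ψ1 ψ2) {c : Spec (CommRingCat.of T) ⟶ S}
    {c1 : Spec (CommRingCat.of T1) ⟶ S} {c2 : Spec (CommRingCat.of T2) ⟶ S}
    (a1 : Over.mk c1 ⟶ Over.mk c) (a2 : Over.mk c2 ⟶ Over.mk c)
    (ha1 : a1.left = sp φ1) (ha2 : a2.left = sp φ2)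
    {X : Over S} {w w' : Over.mk c ⟶ X} (h1 : a1 ≫ w = a1 ≫ w') (h2 : a2 ≫ w = a2 ≫ w') :
    w = w' := by
  refine Over.OverMorphism.ext (h.hom_ext_spec _ _ ?_ ?_)
  · rw [← ha1]; exact congrArg CommaMorphism.left h1
  · rw [← ha2]; exact congrArg CommaMorphism.left h2

variable (B : Type u) [CommRing B] (f : Spec (CommRingCat.of B) ⟶ S)

/-- `Spec W` over `S`. -/
abbrev wpt : Over S := Over.mk (sp (jW B) ≫ f)

/-- The first coordinate axis. -/
def ax1 : dpt B f ⟶ wpt B f :=
  Over.homMk (sp (p1 B)) (by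
    show sp (p1 B) ≫ sp (jW B) ≫ f = sp (algebraMap B (DualNumber B)) ≫ f
    rw [← Category.assoc, sp_comp, p1_comp_jW])

/-- The second coordinate axis. -/
def ax2 : dpt B f ⟶ wpt B f :=
  Over.homMk (sp (p2 B)) (by
    show sp (p2 B) ≫ sp (jW B) ≫ f = sp (algebraMap B (DualNumber B)) ≫ f
    rw [← Category.assoc, sp_comp, p2_comp_jW])

/-- The diagonal. -/
def axS : dpt B f ⟶ wpt B f :=
  Over.homMk (sp (pS B)) (by
    show sp (pS B) ≫ sp (jW B) ≫ f = sp (algebraMap B (DualNumber B)) ≫ f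
    rw [← Category.assoc, sp_comp, pS_comp_jW])

variable {B} in
/-- The map `ε ↦ b e₁ + c e₂`. -/
def qq (b c : B) : wpt B f ⟶ dpt B f :=
  Over.homMk (sp (qW b c)) (by
    show sp (qW b c) ≫ sp (algebraMap B (DualNumber B)) ≫ f = sp (jW B) ≫ f
    rw [← Category.assoc, sp_comp, qW_comp_algebraMap])

variable {B} {f}

theorem ax1_qq (b c : B) : ax1 B f ≫ qq f b c = scale B f b :=
  Over.OverMorphism.ext ((sp_comp _ _).trans (congrArg sp (p1_comp_qW b c)))

theorem ax2_qq (b c : B) : ax2 B f ≫ qq f b c = scale B f c :=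
  Over.OverMorphism.ext ((sp_comp _ _).trans (congrArg sp (p2_comp_qW b c)))

theorem axS_qq (b c : B) : axS B f ≫ qq f b c = scale B f (b + c) :=
  Over.OverMorphism.ext ((sp_comp _ _).trans (congrArg sp (pS_comp_qW b c)))

theorem scale_zero : scale B f 0 = proj B f ≫ zeroSec B f :=
  Over.OverMorphism.ext ((congrArg sp scaleHom_zero).trans (sp_comp _ _).symm)

theorem scale_one : scale B f 1 = 𝟙 (dpt B f) :=
  Over.OverMorphism.ext ((congrArg sp scaleHom_one).trans sp_id)

theorem scale_scale (b c : B) : scale B f c ≫ scale B f b = scale B f (b * c) :=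
  Over.OverMorphism.ext ((sp_comp _ _).trans (congrArg sp (scaleHom_comp b c)))

theorem scale_proj (b : B) : scale B f b ≫ proj B f = proj B f :=
  Over.OverMorphism.ext ((sp_comp _ _).trans (congrArg sp (scaleHom_comp_algebraMap b)))

theorem qq_scale (b c d : B) : qq f b c ≫ scale B f d = qq f (b * d) (c * d) :=
  Over.OverMorphism.ext ((sp_comp _ _).trans (congrArg sp (qW_comp_scaleHom b c d)))

theorem w_ext {X : Over S} {w w' : wpt B f ⟶ X} (h1 : ax1 B f ≫ w = ax1 B f ≫ w')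
    (h2 : ax2 B f ≫ w = ax2 B f ≫ w') : w = w' :=
  glue_hom_ext isFib_W (ax1 B f) (ax2 B f) rfl rfl h1 h2

section Mon

variable {X : Over S} [MonObj X]

theorem scale_zero_comp {u : dpt B f ⟶ X} (hu : zeroSec B f ≫ u = 1) :
    scale B f 0 ≫ u = 1 := by
  rw [scale_zero, Category.assoc, hu, MonObj.comp_one]

theorem pair_restrict {u v : dpt B f ⟶ X} (hu : zeroSec B f ≫ u = 1)
    (hv : zeroSec B f ≫ v = 1) :
    ax1 B f ≫ (qq f 1 0 ≫ u * qq f 0 1 ≫ v) = u ∧
      ax2 B f ≫ (qq f 1 0 ≫ u * qq f 0 1 ≫ v) = v := by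
  constructor
  · rw [MonObj.comp_mul, ← Category.assoc, ← Category.assoc, ax1_qq, ax1_qq, scale_one,
      scale_zero_comp hv, Category.id_comp, _root_.mul_one]
  · rw [MonObj.comp_mul, ← Category.assoc, ← Category.assoc, ax2_qq, ax2_qq, scale_one,
      scale_zero_comp hu, Category.id_comp, _root_.one_mul]

theorem qq_comp {u : dpt B f ⟶ X} (hu : zeroSec B f ≫ u = 1) (b c : B) :
    qq f b c ≫ u = qq f 1 0 ≫ scale B f b ≫ u * qq f 0 1 ≫ scale B f c ≫ u := by
  have h := pair_restrict (u := scale B f b ≫ u) (v := scale B f c ≫ u)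
    (by rw [← Category.assoc, zeroSec_scale, hu]) (by rw [← Category.assoc, zeroSec_scale, hu])
  refine w_ext ?_ ?_
  · rw [h.1, ← Category.assoc, ax1_qq]
  · rw [h.2, ← Category.assoc, ax2_qq]

theorem pair_comm {u v : dpt B f ⟶ X} (hu : zeroSec B f ≫ u = 1)
    (hv : zeroSec B f ≫ v = 1) :
    qq f 1 0 ≫ u * qq f 0 1 ≫ v = qq f 0 1 ≫ v * qq f 1 0 ≫ u := by
  obtain ⟨h1, h2⟩ := pair_restrict hu hv
  refine w_ext ?_ ?_
  · rw [h1, MonObj.comp_mul, ← Category.assoc, ← Category.assoc, ax1_qq, ax1_qq, scale_one,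
      scale_zero_comp hv, Category.id_comp, _root_.one_mul]
  · rw [h2, MonObj.comp_mul, ← Category.assoc, ← Category.assoc, ax2_qq, ax2_qq, scale_one,
      scale_zero_comp hu, Category.id_comp, _root_.mul_one]

theorem scale_add_comp {u : dpt B f ⟶ X} (hu : zeroSec B f ≫ u = 1) (b c : B) :
    scale B f (b + c) ≫ u = scale B f b ≫ u * scale B f c ≫ u := by
  have h := congrArg (fun t => axS B f ≫ t) (qq_comp hu b c)
  simp only [MonObj.comp_mul] at h
  rw [← Category.assoc, axS_qq] at h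
  rw [h, ← Category.assoc, ← Category.assoc (axS B f), axS_qq, axS_qq, add_zero, zero_add,
    scale_one, Category.id_comp, Category.id_comp]

theorem comm_of_zero {u v : dpt B f ⟶ X} (hu : zeroSec B f ≫ u = 1)
    (hv : zeroSec B f ≫ v = 1) : u * v = v * u := by
  have h := congrArg (fun t => axS B f ≫ t) (pair_comm hu hv)
  simp only [MonObj.comp_mul] at h
  rwa [← Category.assoc, axS_qq, ← Category.assoc (axS B f), axS_qq, add_zero, zero_add,
    scale_one, Category.id_comp, Category.id_comp] at h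

theorem isUnit_of_zero {u : dpt B f ⟶ X} (hu : zeroSec B f ≫ u = 1) : IsUnit u := by
  have h : u * scale B f (-1) ≫ u = 1 := by
    have := scale_add_comp hu (1 : B) (-1)
    rw [add_neg_cancel, scale_zero_comp hu, scale_one, Category.id_comp] at this
    exact this.symm
  have hv : zeroSec B f ≫ scale B f (-1) ≫ u = 1 := by rw [← Category.assoc, zeroSec_scale, hu]
  exact ⟨⟨u, scale B f (-1) ≫ u, h, (comm_of_zero hv hu).trans h⟩, rfl⟩

theorem isUnit_iff (v : dpt B f ⟶ X) : IsUnit v ↔ IsUnit (zeroSec B f ≫ v) := by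
  constructor
  · rintro ⟨⟨a, b, h1, h2⟩, rfl⟩
    exact ⟨⟨zeroSec B f ≫ a, zeroSec B f ≫ b, by rw [← MonObj.comp_mul, h1, MonObj.comp_one],
      by rw [← MonObj.comp_mul, h2, MonObj.comp_one]⟩, rfl⟩
  · rintro ⟨⟨a, b, h1, h2⟩, ha⟩
    have ha' : a = zeroSec B f ≫ v := ha
    have h0 : zeroSec B f ≫ (v * proj B f ≫ b) = 1 := by
      rw [MonObj.comp_mul, ← Category.assoc (zeroSec B f), zeroSec_proj, Category.id_comp,
        ← ha', h1]
    have hb : IsUnit (proj B f ≫ b) := ⟨⟨proj B f ≫ b, proj B f ≫ a,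
      by rw [← MonObj.comp_mul, h2, MonObj.comp_one],
      by rw [← MonObj.comp_mul, h1, MonObj.comp_one]⟩, rfl⟩
    obtain ⟨t, ht⟩ := hb
    have := isUnit_of_zero h0
    rw [← ht] at this
    exact (Units.isUnit_mul_units v t).1 this

end Mon

section Grp

variable {G : Over S} [GrpObj G]

theorem lie_comm (v w : Lie G B f) : v * w = w * v :=
  Subtype.ext (comm_of_zero v.2 w.2)

/-- `Lie(G/S)(T)` is commutative. -/
instance : CommGroup (Lie G B f) :=
  { (inferInstance : Group (Lie G B f)) with mul_comm := lie_comm }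

theorem add_smul_lie (b c : B) (v : Lie G B f) : (b + c) • v = b • v * c • v :=
  Subtype.ext (scale_add_comp v.2 b c)

theorem smul_mul_lie (b : B) (v w : Lie G B f) : b • (v * w) = b • v * b • w :=
  Subtype.ext (MonObj.comp_mul _ _ _)

theorem smul_one_lie (b : B) : b • (1 : Lie G B f) = 1 :=
  Subtype.ext (MonObj.comp_one _)

theorem zero_smul_lie (v : Lie G B f) : (0 : B) • v = 1 :=
  Subtype.ext (scale_zero_comp v.2)

theorem one_smul_lie (v : Lie G B f) : (1 : B) • v = v :=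
  Subtype.ext (by rw [smul_val, scale_one, Category.id_comp])

theorem smul_smul_lie (b c : B) (v : Lie G B f) : b • c • v = (b * c) • v :=
  Subtype.ext (by
    rw [smul_val, smul_val, smul_val, ← Category.assoc, scale_scale, mul_comm])

theorem neg_smul_lie (b : B) (v : Lie G B f) : (-b) • v = (b • v)⁻¹ :=
  eq_inv_of_mul_eq_one_left (by rw [← add_smul_lie, neg_add_cancel, zero_smul_lie])

theorem smul_inv_lie (b : B) (v : Lie G B f) : b • v⁻¹ = (b • v)⁻¹ :=
  eq_inv_of_mul_eq_one_left (by rw [← smul_mul_lie, inv_mul_cancel, smul_one_lie])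

theorem zpow_eq_intCast_smul (v : Lie G B f) (n : ℤ) : v ^ n = (n : B) • v := by
  induction n with
  | zero => rw [zpow_zero, Int.cast_zero, zero_smul_lie]
  | succ k ih => rw [zpow_add_one, ih, Int.cast_add, Int.cast_one, add_smul_lie, one_smul_lie]
  | pred k ih =>
    rw [zpow_sub_one, ih, Int.cast_sub, Int.cast_one, sub_eq_add_neg, add_smul_lie, neg_smul_lie,
      one_smul_lie]

end Grp

end Groth.L06.Lie
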