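import Groth.Agent.L06.Lie.Basic

/-!
# The bracket on the Lie algebra of a group scheme
-/

set_option autoImplicit false
set_option maxSynthPendingDepth 3
set_option linter.style.haveILetI false
set_option backward.isDefEq.respectTransparency.types false
set_option backward.isDefEq.respectTransparency false

universe u

noncomputable section

open CategoryTheory MonoidalCategory CartesianMonoidalCategory MonObj GrpObj AlgebraicGeometry Opposite

namespace Groth.L06.Lie

open LieS Groth.L20.Pinch Groth.L09.Patch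

variable {S : Scheme.{u}} {G : Over S} [GrpObj G] {B : Type u} [CommRing B]
  {f : Spec (CommRingCat.of B) ⟶ S}

variable (B f) in
/-- `Spec B[ε] ⟶ Spec B` as the new base. -/
abbrev f1 : Spec (CommRingCat.of (DualNumber B)) ⟶ S :=
  Spec.map (CommRingCat.ofHom (algebraMap B (DualNumber B))) ≫ f

variable (B f) in
/-- The axes `Spec W ⟶ Spec B[ε][ε']`. -/
def piPt : wpt B f ⟶ d2pt B f :=
  Over.homMk (sp (piW B)) (by
    show sp (piW B) ≫ sp (algebraMap (DualNumber B) (D2 B)) ≫ sp (algebraMap B (DualNumber B)) ≫ f =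
      sp (jW B) ≫ f
    rw [← Category.assoc (sp (algebraMap (DualNumber B) (D2 B))), sp_comp, ← Category.assoc,
      sp_comp, piW_comp_toD2])

variable (B f) in
/-- Swapping the coordinates. -/
def swapPt : d2pt B f ⟶ d2pt B f :=
  Over.homMk (sp (swapD2 B)) (by
    show sp (swapD2 B) ≫ sp (algebraMap (DualNumber B) (D2 B)) ≫
      sp (algebraMap B (DualNumber B)) ≫ f =
      sp (algebraMap (DualNumber B) (D2 B)) ≫ sp (algebraMap B (DualNumber B)) ≫ f
    rw [← Category.assoc (sp (algebraMap (DualNumber B) (D2 B))), sp_comp, ← Category.assoc,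
      sp_comp, swapD2_comp_toD2])

variable (B f) in
/-- `ε` renamed to `ε'`. -/
abbrev outer : d2pt B f ⟶ dpt B f := dptMap f (algebraMap B (DualNumber B))

variable (B f) in
/-- Forgetting `ε'`. -/
abbrev inner : d2pt B f ⟶ dpt B f := proj (DualNumber B) (dpt B f).hom

theorem piPt_outer : piPt B f ≫ outer B f = qq f 0 1 :=
  Over.OverMorphism.ext ((sp_comp _ _).trans (congrArg sp piW_comp_bcHom))

theorem piPt_inner : piPt B f ≫ inner B f = qq f 1 0 :=
  Over.OverMorphism.ext ((sp_comp _ _).trans (congrArg sp piW_comp_algebraMap))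

theorem swap_outer : swapPt B f ≫ outer B f = inner B f :=
  Over.OverMorphism.ext ((sp_comp _ _).trans (congrArg sp swapD2_comp_bcHom))

theorem swap_inner : swapPt B f ≫ inner B f = outer B f :=
  Over.OverMorphism.ext ((sp_comp _ _).trans (congrArg sp swapD2_comp_algebraMap))

theorem swap_mulMap : swapPt B f ≫ mulMap B f = mulMap B f :=
  Over.OverMorphism.ext ((sp_comp _ _).trans (congrArg sp swapD2_comp_mulHom))

/-- `Spec W ⟶ Spec B`. -/
def wProj : wpt B f ⟶ pt B f := Over.homMk (sp (jW B)) rfl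

theorem wProj_zeroSec : piPt B f ≫ mulMap B f = wProj ≫ zeroSec B f :=
  Over.OverMorphism.ext (((sp_comp _ _).trans (congrArg sp piW_comp_mulHom)).trans
    (sp_comp _ _).symm)

theorem mulMap_injective {z z' : Lie G B f} (h : mulMap B f ≫ z.1 = mulMap B f ≫ z'.1) :
    z = z' :=
  Subtype.ext (glue_hom_ext isFib_mul (zeroSec B f) (mulMap B f) rfl rfl (z.2.trans z'.2.symm) h)

theorem isBracket_unique {x y z z' : Lie G B f} (h : IsBracket G B f x y z)
    (h' : IsBracket G B f x y z') : z = z' :=
  mulMap_injective (h.trans h'.symm)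

/-- The commutator defining the bracket. -/
abbrev commPt (x y : Lie G B f) : d2pt B f ⟶ G :=
  (outer B f ≫ x.1) * (inner B f ≫ y.1) * (outer B f ≫ x.1)⁻¹ * (inner B f ≫ y.1)⁻¹

theorem piPt_commPt (x y : Lie G B f) : piPt B f ≫ commPt x y = 1 := by
  simp only [commPt, MonObj.comp_mul, GrpObj.comp_inv, ← Category.assoc, piPt_outer, piPt_inner]
  rw [← pair_comm y.2 x.2, _root_.mul_inv_cancel_right, _root_.mul_inv_cancel]

theorem exists_bracket (x y : Lie G B f) : ∃ z : Lie G B f, IsBracket G B f x y z := by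
  obtain ⟨w, h1, h2⟩ := exists_glue isFib_mul (zeroSec B f) (mulMap B f) wProj (piPt B f)
    rfl rfl rfl rfl (1 : pt B f ⟶ G) (commPt x y)
    (by rw [MonObj.comp_one, piPt_commPt])
  exact ⟨⟨w, h1⟩, h2⟩

variable (G) in
/-- The bracket. -/
def br (x y : Lie G B f) : Lie G B f := (exists_bracket x y).choose

theorem isBracket_br (x y : Lie G B f) : IsBracket G B f x y (br G x y) :=
  (exists_bracket x y).choose_spec

theorem br_spec (x y : Lie G B f) : mulMap B f ≫ (br G x y).1 = commPt x y :=
  isBracket_br x y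

theorem br_eq {x y z : Lie G B f} (h : IsBracket G B f x y z) : br G x y = z :=
  isBracket_unique (isBracket_br x y) h

/-- An element of `Lie(G/S)(T)` read over the base `T[ε]`. -/
abbrev pl (x : Lie G B f) : Lie G (DualNumber B) (f1 B f) :=
  pull G f (algebraMap B (DualNumber B)) x

theorem pl_val (x : Lie G B f) : (pl x).1 = outer B f ≫ x.1 := rfl

theorem mulMap_eq_smul (z : Lie G B f) :
    mulMap B f ≫ z.1 = ((DualNumber.eps : DualNumber B) • pl z).1 := by
  rw [smul_val, pl_val, ← Category.assoc]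
  congr 1
  exact (Over.OverMorphism.ext ((sp_comp _ _).trans (congrArg sp scaleHom_eps_comp_bcHom))).symm

theorem outer_comm_mulMap (x z : Lie G B f) :
    (outer B f ≫ x.1) * (mulMap B f ≫ z.1) = (mulMap B f ≫ z.1) * (outer B f ≫ x.1) := by
  rw [mulMap_eq_smul]
  exact congrArg Subtype.val (mul_comm (pl x) ((DualNumber.eps : DualNumber B) • pl z))

theorem br_mul_left (x₁ x₂ y : Lie G B f) : br G (x₁ * x₂) y = br G x₁ y * br G x₂ y := by
  refine mulMap_injective ?_
  have h1 := br_spec x₁ y
  have h2 := br_spec x₂ y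
  have h3 : mulMap B f ≫ (br G x₂ y).1 * mulMap B f ≫ (br G x₁ y).1 =
      mulMap B f ≫ (br G x₁ y).1 * mulMap B f ≫ (br G x₂ y).1 := by
    rw [← MonObj.comp_mul, ← MonObj.comp_mul]
    exact congrArg (fun t : Lie G B f => mulMap B f ≫ t.1) (mul_comm _ _)
  have hc := outer_comm_mulMap x₁ (br G x₂ y)
  rw [br_spec, Subgroup.coe_mul, MonObj.comp_mul, ← h3]
  simp only [commPt, Subgroup.coe_mul, MonObj.comp_mul] at h1 h2 ⊢
  generalize mulMap B f ≫ (br G x₁ y).1 = Z₁ at *
  generalize mulMap B f ≫ (br G x₂ y).1 = Z₂ at *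
  generalize outer B f ≫ x₁.1 = a at *
  generalize outer B f ≫ x₂.1 = b at *
  generalize inner B f ≫ y.1 = c at *
  calc a * b * c * (a * b)⁻¹ * c⁻¹ = a * (b * c * b⁻¹ * c⁻¹) * (c * a⁻¹ * c⁻¹) := by group
    _ = a * Z₂ * (c * a⁻¹ * c⁻¹) := by rw [← h2]
    _ = Z₂ * a * (c * a⁻¹ * c⁻¹) := by rw [hc]
    _ = Z₂ * Z₁ := by rw [h1]; group

theorem br_smul_left (b : B) (x y : Lie G B f) : br G (b • x) y = b • br G x y := by
  refine mulMap_injective ?_
  have e1 : mulMap B f ≫ scale B f b =
      scale (DualNumber B) (f1 B f) (algebraMap B (DualNumber B) b) ≫ mulMap B f :=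
    Over.OverMorphism.ext (((sp_comp _ _).trans
      (congrArg sp (scaleHom_algebraMap_comp_mulHom b).symm)).trans (sp_comp _ _).symm)
  have e2 : outer B f ≫ scale B f b =
      scale (DualNumber B) (f1 B f) (algebraMap B (DualNumber B) b) ≫ outer B f :=
    Over.OverMorphism.ext (((sp_comp _ _).trans
      (congrArg sp (bcHom_comp_scaleHom _ b))).trans (sp_comp _ _).symm)
  have e3 : scale (DualNumber B) (f1 B f) (algebraMap B (DualNumber B) b) ≫ inner B f =
      inner B f := scale_proj _
  rw [br_spec, smul_val, ← Category.assoc (mulMap B f), e1, Category.assoc, br_spec]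
  simp only [commPt, smul_val, MonObj.comp_mul, GrpObj.comp_inv]
  rw [← Category.assoc (outer B f), e2, Category.assoc, ← Category.assoc _ (inner B f), e3]

theorem br_anti (x y : Lie G B f) : br G y x = (br G x y)⁻¹ := by
  refine mulMap_injective ?_
  rw [br_spec, Subgroup.coe_inv, GrpObj.comp_inv, br_spec]
  have := congrArg (fun t => swapPt B f ≫ t) (br_spec x y)
  simp only [commPt, MonObj.comp_mul, GrpObj.comp_inv, ← Category.assoc, swap_mulMap, swap_outer,
    swap_inner] at this
  rw [br_spec] at this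
  simp only [commPt] at this ⊢
  rw [this]
  group

theorem br_self (x : Lie G B f) : br G x x = 1 := by
  refine mulMap_injective ?_
  rw [br_spec, Subgroup.coe_one, MonObj.comp_one]
  suffices h : (outer B f ≫ x.1) * (inner B f ≫ x.1) = (inner B f ≫ x.1) * (outer B f ≫ x.1) by
    simp only [commPt]
    rw [h, _root_.mul_inv_cancel_right, _root_.mul_inv_cancel]
  have hpi : piPt B f ≫ ((inner B f ≫ x.1) * (outer B f ≫ x.1)) = qq f 1 1 ≫ x.1 := by
    rw [MonObj.comp_mul, ← Category.assoc, ← Category.assoc, piPt_inner, piPt_outer,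
      qq_comp x.2 1 1, scale_one, Category.id_comp]
  have hswap : swapPt B f ≫ ((inner B f ≫ x.1) * (outer B f ≫ x.1)) =
      (outer B f ≫ x.1) * (inner B f ≫ x.1) := by
    rw [MonObj.comp_mul, ← Category.assoc, ← Category.assoc, swap_inner, swap_outer]
  rw [← hswap]
  generalize hA : (inner B f ≫ x.1) * (outer B f ≫ x.1) = A at hpi ⊢
  have hfib : IsFib (fib1 (qW (1 : B) 1) (piW B)) (fib2 (qW (1 : B) 1) (piW B))
      (qW (1 : B) 1) (piW B) := isFib_fib _ _ piW_surjective
  obtain ⟨H, -, h2⟩ := hfib.exists_desc_hom x.1.left A.left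
    (congrArg CommaMorphism.left hpi).symm
  refine Over.OverMorphism.ext ?_
  show sp (swapD2 B) ≫ A.left = A.left
  rw [← h2, ← Category.assoc, sp_comp]
  congr 2
  exact RingHom.ext fun t => swapD2_of_fib t

end Groth.L06.Lie
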