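import Groth.Agent.L06.Lie.Basic
import Groth.Prelude.Def_Red

/-!
# The Lie algebra of a diagonalisable group
-/

set_option autoImplicit false
set_option maxSynthPendingDepth 3
set_option linter.style.haveILetI false
set_option backward.isDefEq.respectTransparency.types false
set_option backward.isDefEq.respectTransparency false

universe u

noncomputable section

open CategoryTheory MonObj GrpObj AlgebraicGeometry

namespace Groth.L06.Lie

open LieS Groth.L09.Patch

variable {R : Type u} [CommRing R] {M : Type} [AddCommGroup M] {B : Type u} [CommRing B]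
  [Algebra R B]

/-- The group algebra. -/
abbrev RM (R : Type u) [CommRing R] (M : Type) [AddCommGroup M] : Type u :=
  MonoidAlgebra R (Multiplicative M)

/-- Points with values in dual numbers as algebra maps. -/
def ptsEquiv :
    (dpt B (Spec.map (CommRingCat.ofHom (algebraMap R B))) ⟶ Red.diag R M) ≃*
      WithConv (RM R M →ₐ[R] DualNumber B) :=
  { toFun := fun v => Spec.mapMulEquiv.symm ((LieS.dptIso B).inv ≫ v)
    invFun := fun φ => (LieS.dptIso B).hom ≫ Spec.mapMulEquiv φ
    left_inv := fun v => by simp
    right_inv := fun φ => by simp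
    map_mul' := fun v w => by rw [MonObj.comp_mul, map_mul] }

/-- The value of a point at a group element. -/
def ev (v : dpt B (Spec.map (CommRingCat.ofHom (algebraMap R B))) ⟶ Red.diag R M) (m : M) :
    DualNumber B :=
  (ptsEquiv v).ofConv (MonoidAlgebra.single (Multiplicative.ofAdd m) 1)

theorem ev_mul (v w : dpt B (Spec.map (CommRingCat.ofHom (algebraMap R B))) ⟶ Red.diag R M)
    (m : M) : ev (v * w) m = ev v m * ev w m := by
  show (ptsEquiv (v * w)) (MonoidAlgebra.single (Multiplicative.ofAdd m) 1) = _
  rw [map_mul, AlgHom.convMul_apply, MonoidAlgebra.comul_single]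
  simp [ev, Algebra.TensorProduct.lift_tmul]

theorem ev_one (m : M) :
    ev (1 : dpt B (Spec.map (CommRingCat.ofHom (algebraMap R B))) ⟶ Red.diag R M) m = 1 := by
  show (ptsEquiv (1 : dpt B _ ⟶ Red.diag R M)) _ = _
  rw [map_one, AlgHom.convOne_apply, MonoidAlgebra.counit_single]
  simp

theorem ev_ext {v w : dpt B (Spec.map (CommRingCat.ofHom (algebraMap R B))) ⟶ Red.diag R M}
    (h : ∀ m, ev v m = ev w m) : v = w := by
  refine (ptsEquiv (R := R) (M := M) (B := B)).injective (WithConv.ofConv_injective ?_)
  exact (MonoidAlgebra.lift R (DualNumber B) (Multiplicative M)).symm.injective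
    (MonoidHom.ext fun m => h (Multiplicative.toAdd m))

theorem ev_scale (b : B)
    (v : dpt B (Spec.map (CommRingCat.ofHom (algebraMap R B))) ⟶ Red.diag R M) (m : M) :
    ev (scale B _ b ≫ v) m = scaleHom b (ev v m) := by
  have h : Spec.preimage ((LieS.dptIso B).inv ≫ scale B _ b ≫ v).left =
      Spec.preimage ((LieS.dptIso B).inv ≫ v).left ≫ CommRingCat.ofHom (scaleHom b) := by
    apply Spec.map_injective
    rw [Spec.map_preimage, Spec.map_comp, Spec.map_preimage]
    show (LieS.dptIso B).inv.left ≫ sp (scaleHom b) ≫ v.left =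
      sp (scaleHom b) ≫ (LieS.dptIso B).inv.left ≫ v.left
    simp [LieS.dptIso]
    exact Category.id_comp _
  exact congrArg (fun t => t.hom (MonoidAlgebra.single (Multiplicative.ofAdd m) 1)) h

theorem mem_Lie_iff_ev
    (v : dpt B (Spec.map (CommRingCat.ofHom (algebraMap R B))) ⟶ Red.diag R M) :
    v ∈ LieR (Red.diag R M) B ↔ ∀ m, (ev v m).fst = 1 := by
  rw [LieS.mem_Lie_iff]
  constructor
  · intro h m
    have e : scale B _ 0 ≫ v = 1 := scale_zero_comp h
    have := congrArg TrivSqZeroExt.fst (congrArg (fun t => ev t m) e)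
    simpa [ev_scale, ev_one] using this
  · intro h
    have e : scale B _ 0 ≫ v = 1 := by
      refine ev_ext fun m => ?_
      rw [ev_scale, ev_one]
      refine TrivSqZeroExt.ext ?_ ?_ <;> simp [h m]
    have := congrArg (fun t => zeroSec B _ ≫ t) e
    simpa [← Category.assoc, zeroSec_scale, MonObj.comp_one] using this

/-- `Lie(D(M)) = Hom(M, B)`. -/
theorem exists_equiv :
    ∃ e : LieR (Red.diag R M) B ≃* Multiplicative (M →+ B),
      (∀ (v : LieR (Red.diag R M) B) (m : M),
        Multiplicative.toAdd (e v) m = (ev v.1 m).snd) ∧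
      ∀ (b : B) (v : LieR (Red.diag R M) B),
        e (b • v) = Multiplicative.ofAdd (b • Multiplicative.toAdd (e v)) := by
  let fwd : LieR (Red.diag R M) B →* Multiplicative (M →+ B) :=
    { toFun := fun v => Multiplicative.ofAdd
        { toFun := fun m => (ev v.1 m).snd
          map_zero' := by simp [ev, ← MonoidAlgebra.one_def]
          map_add' := fun m n => by
            have hm := (mem_Lie_iff_ev v.1).1 v.2
            have : ev v.1 (m + n) = ev v.1 m * ev v.1 n := by
              simp [ev, ← map_mul, MonoidAlgebra.single_mul_single]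
            rw [this, TrivSqZeroExt.snd_mul, hm m, hm n]
            simp [add_comm] }
      map_one' := Multiplicative.toAdd.injective (AddMonoidHom.ext fun m => by simp [ev_one])
      map_mul' := fun v w => Multiplicative.toAdd.injective (AddMonoidHom.ext fun m => by
        have hv := (mem_Lie_iff_ev v.1).1 v.2
        have hw := (mem_Lie_iff_ev w.1).1 w.2
        show (ev (v.1 * w.1) m).snd = (ev v.1 m).snd + (ev w.1 m).snd
        rw [ev_mul, TrivSqZeroExt.snd_mul, hv m, hw m]
        simp [add_comm]) }
  have hbij : Function.Bijective fwd := by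
    constructor
    · intro v w h
      refine Subtype.ext (ev_ext fun m => TrivSqZeroExt.ext ?_ ?_)
      · rw [(mem_Lie_iff_ev v.1).1 v.2 m, (mem_Lie_iff_ev w.1).1 w.2 m]
      · exact DFunLike.congr_fun (congrArg Multiplicative.toAdd h) m
    · intro D
      let F : Multiplicative M →* DualNumber B :=
        { toFun := fun m => TrivSqZeroExt.inl 1 +
            TrivSqZeroExt.inr (Multiplicative.toAdd D (Multiplicative.toAdd m))
          map_one' := TrivSqZeroExt.ext (by simp) (by simp)
          map_mul' := fun m n => TrivSqZeroExt.ext (by simp) (by simp [add_comm]) }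
      let v := (ptsEquiv (R := R) (M := M) (B := B)).symm
        (WithConv.toConv (MonoidAlgebra.lift R (DualNumber B) (Multiplicative M) F))
      have hev : ∀ m, ev v m = F (Multiplicative.ofAdd m) := fun m => by
        simp [ev, v]
      refine ⟨⟨v, (mem_Lie_iff_ev v).2 fun m => by simp [hev, F]⟩, ?_⟩
      refine Multiplicative.toAdd.injective (AddMonoidHom.ext fun m => ?_)
      simp [fwd, hev, F]
  refine ⟨MulEquiv.ofBijective fwd hbij, fun v m => rfl, fun b v => ?_⟩
  refine Multiplicative.toAdd.injective (AddMonoidHom.ext fun m => ?_)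
  show (ev (scale B _ b ≫ v.1) m).snd = b • (ev v.1 m).snd
  simp [ev_scale]

end Groth.L06.Lie
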