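import Groth.Agent.L06.Lie.Bracket

/-!
# The Lie algebra structure on Lie(G/S)(T)
-/

set_option autoImplicit false
set_option maxSynthPendingDepth 3
set_option linter.style.haveILetI false
set_option backward.isDefEq.respectTransparency.types false
set_option backward.isDefEq.respectTransparency false

universe u

noncomputable section

open CategoryTheory MonoidalCategory CartesianMonoidalCategory MonObj GrpObj AlgebraicGeometry Opposite

namespace Groth.L06.Lie

open LieS Groth.L20.Pinch Groth.L09.Patch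

variable {S : Scheme.{u}} {G : Over S} [GrpObj G] {B : Type u} [CommRing B]
  {f : Spec (CommRingCat.of B) ⟶ S}

section Pull

variable {C : Type u} [CommRing C] (h : B →+* C)

/-- The pulled back base. -/
abbrev fC (f : Spec (CommRingCat.of B) ⟶ S) : Spec (CommRingCat.of C) ⟶ S :=
  Spec.map (CommRingCat.ofHom h) ≫ f

variable (f) in
/-- Base change of the iterated dual numbers. -/
def d2Map : d2pt C (fC h f) ⟶ d2pt B f :=
  Over.homMk (sp (bcHom (bcHom h))) (by
    show sp (bcHom (bcHom h)) ≫ sp (algebraMap (DualNumber B) (D2 B)) ≫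
        sp (algebraMap B (DualNumber B)) ≫ f =
      sp (algebraMap (DualNumber C) (D2 C)) ≫ sp (algebraMap C (DualNumber C)) ≫ sp h ≫ f
    rw [← Category.assoc, sp_comp, bcHom_comp_algebraMap, ← sp_comp, Category.assoc,
      ← Category.assoc (sp (bcHom h)), sp_comp, bcHom_comp_algebraMap, ← sp_comp,
      Category.assoc])

theorem d2Map_outer : d2Map f h ≫ outer B f = outer C (fC h f) ≫ dptMap f h :=
  Over.OverMorphism.ext (((sp_comp _ _).trans (congrArg sp (bcHom_bcHom_comp_bcHom h))).trans
    (sp_comp _ _).symm)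

theorem d2Map_inner : d2Map f h ≫ inner B f = inner C (fC h f) ≫ dptMap f h :=
  Over.OverMorphism.ext (((sp_comp _ _).trans (congrArg sp (bcHom_comp_algebraMap (bcHom h)))).trans
    (sp_comp _ _).symm)

theorem d2Map_mulMap : d2Map f h ≫ mulMap B f = mulMap C (fC h f) ≫ dptMap f h :=
  Over.OverMorphism.ext (((sp_comp _ _).trans (congrArg sp (bcHom_bcHom_comp_mulHom h))).trans
    (sp_comp _ _).symm)

theorem pull_br (x y : Lie G B f) :
    pull G f h (br G x y) = br G (pull G f h x) (pull G f h y) := by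
  refine (br_eq ?_).symm
  have := congrArg (fun t => d2Map f h ≫ t) (br_spec x y)
  simp only [commPt, MonObj.comp_mul, GrpObj.comp_inv, ← Category.assoc, d2Map_mulMap,
    d2Map_outer, d2Map_inner] at this
  simp only [Category.assoc] at this
  exact this

theorem pull_smul (b : B) (x : Lie G B f) : pull G f h (b • x) = h b • pull G f h x := by
  refine Subtype.ext ?_
  show dptMap f h ≫ scale B f b ≫ x.1 = scale C (fC h f) (h b) ≫ dptMap f h ≫ x.1
  rw [← Category.assoc, ← Category.assoc]
  congr 1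
  exact Over.OverMorphism.ext (((sp_comp _ _).trans (congrArg sp (bcHom_comp_scaleHom h b))).trans
    (sp_comp _ _).symm)

end Pull

theorem Ad_smul (g : pt B f ⟶ G) (b : B) (v : Lie G B f) :
    Ad G B f g (b • v) = b • Ad G B f g v := by
  refine Subtype.ext ?_
  show (proj B f ≫ g) * (scale B f b ≫ v.1) * (proj B f ≫ g)⁻¹ =
    scale B f b ≫ ((proj B f ≫ g) * v.1 * (proj B f ≫ g)⁻¹)
  rw [MonObj.comp_mul, MonObj.comp_mul, GrpObj.comp_inv, ← Category.assoc (scale B f b) (proj B f),
    scale_proj]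

theorem Ad_br (g : pt B f ⟶ G) (x y : Lie G B f) :
    Ad G B f g (br G x y) = br G (Ad G B f g x) (Ad G B f g y) := by
  refine (br_eq ?_).symm
  have e1 : outer B f ≫ proj B f = inner B f ≫ proj B f :=
    Over.OverMorphism.ext (((sp_comp _ _).trans (congrArg sp (bcHom_comp_algebraMap _))).trans
      (sp_comp _ _).symm)
  have e2 : mulMap B f ≫ proj B f = inner B f ≫ proj B f :=
    Over.OverMorphism.ext (((sp_comp _ _).trans (congrArg sp (mulHom_comp_algebraMap B))).trans
      (sp_comp _ _).symm)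
  show mulMap B f ≫ ((proj B f ≫ g) * (br G x y).1 * (proj B f ≫ g)⁻¹) =
    (outer B f ≫ ((proj B f ≫ g) * x.1 * (proj B f ≫ g)⁻¹)) *
      (inner B f ≫ ((proj B f ≫ g) * y.1 * (proj B f ≫ g)⁻¹)) *
      (outer B f ≫ ((proj B f ≫ g) * x.1 * (proj B f ≫ g)⁻¹))⁻¹ *
      (inner B f ≫ ((proj B f ≫ g) * y.1 * (proj B f ≫ g)⁻¹))⁻¹
  simp only [MonObj.comp_mul, GrpObj.comp_inv, ← Category.assoc, e1, e2]
  rw [br_spec]
  simp only [commPt]
  generalize (inner B f ≫ proj B f) ≫ g = k
  group

theorem br_mul_right (x y₁ y₂ : Lie G B f) : br G x (y₁ * y₂) = br G x y₁ * br G x y₂ := by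
  rw [br_anti (y₁ * y₂) x, br_mul_left, _root_.mul_inv, br_anti x y₁, br_anti x y₂, _root_.inv_inv, _root_.inv_inv]

theorem br_smul_right (b : B) (x y : Lie G B f) : br G x (b • y) = b • br G x y := by
  rw [br_anti (b • y) x, br_smul_left, ← smul_inv_lie, ← br_anti]

theorem Ad_pl (x y : Lie G B f) :
    Ad G (DualNumber B) (f1 B f) x.1 (pl y) =
      (DualNumber.eps : DualNumber B) • pl (br G x y) * pl y := by
  refine Subtype.ext ?_
  rw [Subgroup.coe_mul, ← mulMap_eq_smul, br_anti y x, Subgroup.coe_inv, GrpObj.comp_inv,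
    br_spec]
  show (inner B f ≫ x.1) * (outer B f ≫ y.1) * (inner B f ≫ x.1)⁻¹ =
    (commPt y x)⁻¹ * (outer B f ≫ y.1)
  simp only [commPt]
  group

theorem eps_smul_pl_injective {a b : Lie G B f}
    (h : (DualNumber.eps : DualNumber B) • pl a = (DualNumber.eps : DualNumber B) • pl b) :
    a = b :=
  mulMap_injective (by rw [mulMap_eq_smul, mulMap_eq_smul, h])

theorem jacobi (x y z : Lie G B f) :
    br G x (br G y z) = br G (br G x y) z * br G y (br G x z) := by
  refine eps_smul_pl_injective ?_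
  have h := Ad_br (f := f1 B f) (G := G) x.1 (pl y) (pl z)
  rw [← pull_br, Ad_pl, Ad_pl, Ad_pl] at h
  simp only [br_mul_left, br_mul_right, br_smul_left, br_smul_right, ← pull_br, smul_smul_lie,
    LieS.eps_sq, zero_smul_lie, one_mul] at h
  rw [← _root_.mul_assoc] at h
  have h' := mul_right_cancel h
  rw [h', pl, map_mul]
  simp only [smul_mul_lie, smul_smul_lie, LieS.eps_sq, zero_smul_lie, _root_.one_mul]
  exact mul_comm _ _

variable (G B f) in
/-- The additive model of `Lie(G/S)(T)`. -/
@[ext] structure LA : Type u where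
  /-- The underlying point. -/
  pnt : Lie G B f

instance : Add (LA G B f) := ⟨fun a b => ⟨a.pnt * b.pnt⟩⟩
instance : Zero (LA G B f) := ⟨⟨1⟩⟩
instance : Neg (LA G B f) := ⟨fun a => ⟨a.pnt⁻¹⟩⟩

@[simp] theorem LA.pnt_add (a b : LA G B f) : (a + b).pnt = a.pnt * b.pnt := rfl
@[simp] theorem LA.pnt_zero : (0 : LA G B f).pnt = 1 := rfl
@[simp] theorem LA.pnt_neg (a : LA G B f) : (-a).pnt = a.pnt⁻¹ := rfl

instance : AddCommGroup (LA G B f) where
  add_assoc a b c := LA.ext (_root_.mul_assoc _ _ _)
  zero_add a := LA.ext (_root_.one_mul _)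
  add_zero a := LA.ext (_root_.mul_one _)
  nsmul := nsmulRec
  zsmul := zsmulRec
  neg_add_cancel a := LA.ext (_root_.inv_mul_cancel _)
  add_comm a b := LA.ext (mul_comm _ _)

instance : Module B (LA G B f) where
  smul b a := ⟨b • a.pnt⟩
  one_smul a := LA.ext (one_smul_lie _)
  mul_smul b c a := LA.ext (smul_smul_lie b c _).symm
  smul_zero b := LA.ext (smul_one_lie b)
  smul_add b a a' := LA.ext (smul_mul_lie b _ _)
  add_smul b c a := LA.ext (add_smul_lie b c _)
  zero_smul a := LA.ext (zero_smul_lie _)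

instance : Bracket (LA G B f) (LA G B f) := ⟨fun a b => ⟨br G a.pnt b.pnt⟩⟩

instance : LieRing (LA G B f) where
  add_lie a b c := LA.ext (br_mul_left _ _ _)
  lie_add a b c := LA.ext (br_mul_right _ _ _)
  lie_self a := LA.ext (br_self _)
  leibniz_lie a b c := LA.ext (jacobi _ _ _)

instance : LieAlgebra B (LA G B f) where
  lie_smul b x y := LA.ext (br_smul_right _ _ _)

variable (G B f) in
/-- The model. -/
def model : LieS.Model G B f (LA G B f) where
  e :=
    { toFun := fun a => (Multiplicative.toAdd a).pnt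
      invFun := fun v => Multiplicative.ofAdd ⟨v⟩
      left_inv := fun _ => rfl
      right_inv := fun _ => rfl
      map_mul' := fun _ _ => rfl }
  e_smul _ _ := rfl
  e_lie x y := isBracket_br x.pnt y.pnt

/-- `x` centralises a subgroup iff it is fixed by its adjoint action. -/
theorem centralizer_iff {K : Over S} [GrpObj K] (i : K ⟶ G) (x : Lie G B f) :
    (∀ (X' : Over S) (y : X' ⟶ dpt B f) (h : X' ⟶ K),
      (y ≫ x.1) * (h ≫ i) = (h ≫ i) * (y ≫ x.1)) ↔
    (∀ (B' : Type u) [CommRing B'] (h : B →+* B') (k : pt B' (fC h f) ⟶ K),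
      Ad G B' (fC h f) (k ≫ i) (pull G f h x) = pull G f h x) := by
  constructor
  · intro H B' _ h k
    refine Subtype.ext ?_
    show (proj B' (fC h f) ≫ k ≫ i) * (dptMap f h ≫ x.1) * (proj B' (fC h f) ≫ k ≫ i)⁻¹ =
      dptMap f h ≫ x.1
    rw [← Category.assoc, ← H _ (dptMap f h) (proj B' (fC h f) ≫ k), _root_.mul_inv_cancel_right]
  · intro H X' y g
    refine Over.OverMorphism.ext (Scheme.Cover.hom_ext X'.left.affineCover _ _ fun j => ?_)
    have aff : ∀ (C : Type u) [CommRing C] (c : Spec (CommRingCat.of C) ⟶ S)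
        (y : Over.mk c ⟶ dpt B f) (g : Over.mk c ⟶ K),
        (y ≫ x.1) * (g ≫ i) = (g ≫ i) * (y ≫ x.1) := by
      intro C _ c y g
      obtain ⟨φ, hφ⟩ : ∃ φ : DualNumber B →+* C, y.left = sp φ :=
        ⟨(Spec.preimage y.left).hom, (Spec.map_preimage y.left).symm⟩
      have hc : c = sp (φ.comp (algebraMap B (DualNumber B))) ≫ f := by
        rw [← sp_comp, Category.assoc, ← hφ]
        exact (Over.w y).symm
      subst hc
      let h : B →+* C := φ.comp (algebraMap B (DualNumber B))
      have hsq : φ DualNumber.eps * φ DualNumber.eps = 0 := by rw [← map_mul, eps_sq, map_zero]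
      let s : pt C (fC h f) ⟶ dpt C (fC h f) :=
        Over.homMk (sp (dualHom (RingHom.id C) (φ DualNumber.eps) hsq)) (by
          show sp _ ≫ sp (algebraMap C (DualNumber C)) ≫ fC h f = fC h f
          rw [← Category.assoc, sp_comp, dualHom_comp_algebraMap, sp_id, Category.id_comp])
      have hs1 : s ≫ proj C (fC h f) = 𝟙 _ :=
        Over.OverMorphism.ext ((sp_comp _ _).trans
          ((congrArg sp (dualHom_comp_algebraMap _ _ _)).trans sp_id))
      have hs2 : s ≫ dptMap f h = y := by
        refine Over.OverMorphism.ext ((sp_comp _ _).trans ((congrArg sp ?_).trans hφ.symm))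
        refine RingHom.ext fun z => ?_
        have hz : z = algebraMap B (DualNumber B) z.fst +
            algebraMap B (DualNumber B) z.snd * DualNumber.eps :=
          TrivSqZeroExt.ext (by simp) (by simp)
        conv_rhs => rw [hz, map_add, map_mul]
        simp [h]
      have e := congrArg (fun v : Lie G C (fC h f) => s ≫ v.1) (H C h g)
      have e' : s ≫ ((proj C (fC h f) ≫ g ≫ i) * (dptMap f h ≫ x.1) *
          (proj C (fC h f) ≫ g ≫ i)⁻¹) = s ≫ dptMap f h ≫ x.1 := e
      rw [MonObj.comp_mul, MonObj.comp_mul, GrpObj.comp_inv,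
        ← Category.assoc s (proj C (fC h f)), hs1, Category.id_comp, ← Category.assoc s, hs2,
        mul_inv_eq_iff_eq_mul] at e'
      exact e'.symm
    let jι : Over.mk (X'.left.affineCover.f j ≫ X'.hom) ⟶ X' :=
      Over.homMk (X'.left.affineCover.f j) rfl
    have e := aff _ _ (jι ≫ y) (jι ≫ g)
    rw [Category.assoc, Category.assoc, ← MonObj.comp_mul, ← MonObj.comp_mul] at e
    exact congrArg CommaMorphism.left e

end Groth.L06.Lie
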