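import Groth.Prelude.Def_LieS
import Groth.Agent.L20.Pinch.Affine

/-!
# Rings used for the group law of the Lie algebra of a group scheme
-/

set_option autoImplicit false
set_option maxSynthPendingDepth 3
set_option linter.style.haveILetI false

universe u

noncomputable section

namespace Groth.L06.Lie

open LieS TrivSqZeroExt Groth.L20.Pinch

variable (B : Type u) [CommRing B]

/-- `B[ε] → B`. -/
abbrev augD : DualNumber B →+* B := (TrivSqZeroExt.fstHom B B B).toRingHom

/-- `B[e₁, e₂] / (e₁, e₂)²`. -/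
abbrev W : Type u := TrivSqZeroExt B (B × B)

/-- `B → W`. -/
abbrev jW : B →+* W B := algebraMap B (W B)

/-- `W → B[ε]` killing `e₂`. -/
def p1 : W B →+* DualNumber B := (TrivSqZeroExt.map (LinearMap.fst B B B)).toRingHom

/-- `W → B[ε]` killing `e₁`. -/
def p2 : W B →+* DualNumber B := (TrivSqZeroExt.map (LinearMap.snd B B B)).toRingHom

/-- `W → B[ε]` sending both coordinates to `ε`. -/
def pS : W B →+* DualNumber B :=
  (TrivSqZeroExt.map (LinearMap.fst B B B + LinearMap.snd B B B)).toRingHom

variable {B}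

/-- `ε ↦ b e₁ + c e₂`. -/
def qW (b c : B) : DualNumber B →+* W B :=
  dualHom (jW B) (TrivSqZeroExt.inr (b, c)) (TrivSqZeroExt.inr_mul_inr _ _ _)

@[simp] theorem qW_fst (b c : B) (x : DualNumber B) : (qW b c x).fst = x.fst := by
  simp [qW, algebraMap_eq_inl']

@[simp] theorem qW_snd (b c : B) (x : DualNumber B) :
    (qW b c x).snd = (x.snd * b, x.snd * c) := by
  simp [qW, algebraMap_eq_inl']

@[simp] theorem p1_fst (w : W B) : (p1 B w).fst = w.fst := by simp [p1]
@[simp] theorem p1_snd (w : W B) : (p1 B w).snd = w.snd.1 := by simp [p1]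
@[simp] theorem p2_fst (w : W B) : (p2 B w).fst = w.fst := by simp [p2]
@[simp] theorem p2_snd (w : W B) : (p2 B w).snd = w.snd.2 := by simp [p2]
@[simp] theorem pS_fst (w : W B) : (pS B w).fst = w.fst := by simp [pS]
@[simp] theorem pS_snd (w : W B) : (pS B w).snd = w.snd.1 + w.snd.2 := by simp [pS]

@[simp] theorem scaleHom_fst (b : B) (x : DualNumber B) : (scaleHom b x).fst = x.fst := by
  simp [scaleHom, algebraMap_eq_inl']

@[simp] theorem scaleHom_snd (b : B) (x : DualNumber B) : (scaleHom b x).snd = b * x.snd := by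
  simp [scaleHom, algebraMap_eq_inl']
  ring

@[simp] theorem bcHom_fst {C : Type u} [CommRing C] (h : B →+* C) (x : DualNumber B) :
    (bcHom h x).fst = h x.fst := by simp [bcHom, algebraMap_eq_inl']

@[simp] theorem bcHom_snd {C : Type u} [CommRing C] (h : B →+* C) (x : DualNumber B) :
    (bcHom h x).snd = h x.snd := by simp [bcHom, algebraMap_eq_inl']

@[simp] theorem algebraMap_fst (b : B) : (algebraMap B (DualNumber B) b).fst = b := by
  simp [algebraMap_eq_inl']

@[simp] theorem algebraMap_snd (b : B) : (algebraMap B (DualNumber B) b).snd = 0 := by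
  simp [algebraMap_eq_inl']

@[simp] theorem mulHom_fst (x : DualNumber B) :
    (mulHom B x).fst = algebraMap B (DualNumber B) x.fst := by
  simp [mulHom, algebraMap_eq_inl']

@[simp] theorem mulHom_snd (x : DualNumber B) :
    (mulHom B x).snd = TrivSqZeroExt.inr x.snd := by
  refine TrivSqZeroExt.ext ?_ ?_ <;> simp [mulHom, algebraMap_eq_inl']

theorem p1_comp_qW (b c : B) : (p1 B).comp (qW b c) = scaleHom b :=
  RingHom.ext fun x => TrivSqZeroExt.ext (by simp) (by simp [mul_comm])

theorem p2_comp_qW (b c : B) : (p2 B).comp (qW b c) = scaleHom c :=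
  RingHom.ext fun x => TrivSqZeroExt.ext (by simp) (by simp [mul_comm])

theorem pS_comp_qW (b c : B) : (pS B).comp (qW b c) = scaleHom (b + c) :=
  RingHom.ext fun x => TrivSqZeroExt.ext (by simp) (by simp [add_mul, mul_comm])

theorem scaleHom_zero :
    scaleHom (0 : B) = (algebraMap B (DualNumber B)).comp (augD B) :=
  RingHom.ext fun x => TrivSqZeroExt.ext (by simp) (by simp)

theorem scaleHom_one : scaleHom (1 : B) = RingHom.id _ :=
  RingHom.ext fun x => TrivSqZeroExt.ext (by simp) (by simp)

theorem scaleHom_comp (b c : B) : (scaleHom c).comp (scaleHom b) = scaleHom (b * c) :=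
  RingHom.ext fun x => TrivSqZeroExt.ext (by simp) (by simp [mul_assoc, mul_left_comm])

theorem p1_comp_jW : (p1 B).comp (jW B) = algebraMap B (DualNumber B) :=
  RingHom.ext fun x => TrivSqZeroExt.ext (by simp [algebraMap_eq_inl'])
    (by simp [algebraMap_eq_inl'])

theorem p2_comp_jW : (p2 B).comp (jW B) = algebraMap B (DualNumber B) :=
  RingHom.ext fun x => TrivSqZeroExt.ext (by simp [algebraMap_eq_inl'])
    (by simp [algebraMap_eq_inl'])

theorem pS_comp_jW : (pS B).comp (jW B) = algebraMap B (DualNumber B) :=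
  RingHom.ext fun x => TrivSqZeroExt.ext (by simp [algebraMap_eq_inl'])
    (by simp [algebraMap_eq_inl'])

theorem qW_comp_algebraMap (b c : B) : (qW b c).comp (algebraMap B (DualNumber B)) = jW B :=
  RingHom.ext fun x => TrivSqZeroExt.ext (by simp [algebraMap_eq_inl'])
    (by simp [algebraMap_eq_inl'])

/-- `W = B[ε] ×_B B[ε]`. -/
theorem isFib_W : IsFib (p1 B) (p2 B) (augD B) (augD B) where
  comm := RingHom.ext fun x => by simp
  inj t h1 h2 := by
    have a := congrArg TrivSqZeroExt.fst h1
    have b := congrArg TrivSqZeroExt.snd h1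
    have c := congrArg TrivSqZeroExt.snd h2
    simp at a b c
    exact TrivSqZeroExt.ext a (Prod.ext b c)
  glue x y h := by
    refine ⟨TrivSqZeroExt.inl x.fst + TrivSqZeroExt.inr (x.snd, y.snd),
      TrivSqZeroExt.ext (by simp) (by simp), TrivSqZeroExt.ext ?_ (by simp)⟩
    simpa using h
  surj b := ⟨algebraMap B (DualNumber B) b, by simp⟩

variable (B)

/-- `B[ε][ε'] → W`, `ε ↦ e₁`, `ε' ↦ e₂`. -/
def piW : D2 B →+* W B :=
  dualHom (qW 1 0) (TrivSqZeroExt.inr ((0 : B), (1 : B))) (TrivSqZeroExt.inr_mul_inr _ _ _)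

/-- Swapping `ε` and `ε'`. -/
def swapD2 : D2 B →+* D2 B :=
  dualHom (bcHom (algebraMap B (DualNumber B)))
    (algebraMap (DualNumber B) (D2 B) DualNumber.eps) (by rw [← map_mul, eps_sq, map_zero])

variable {B}

@[simp] theorem piW_fst (x : D2 B) : (piW B x).fst = x.fst.fst := by simp [piW]

@[simp] theorem piW_snd (x : D2 B) : (piW B x).snd = (x.fst.snd, x.snd.fst) := by
  simp [piW]

@[simp] theorem swapD2_fst_fst (x : D2 B) : (swapD2 B x).fst.fst = x.fst.fst := by
  simp [swapD2, algebraMap_eq_inl']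

@[simp] theorem swapD2_fst_snd (x : D2 B) : (swapD2 B x).fst.snd = x.snd.fst := by
  simp [swapD2, algebraMap_eq_inl']

@[simp] theorem swapD2_snd_fst (x : D2 B) : (swapD2 B x).snd.fst = x.fst.snd := by
  simp [swapD2, algebraMap_eq_inl']

@[simp] theorem swapD2_snd_snd (x : D2 B) : (swapD2 B x).snd.snd = x.snd.snd := by
  simp [swapD2, algebraMap_eq_inl']

theorem D2_ext {x y : D2 B} (h1 : x.fst.fst = y.fst.fst) (h2 : x.fst.snd = y.fst.snd)
    (h3 : x.snd.fst = y.snd.fst) (h4 : x.snd.snd = y.snd.snd) : x = y :=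
  TrivSqZeroExt.ext (TrivSqZeroExt.ext h1 h2) (TrivSqZeroExt.ext h3 h4)

theorem piW_comp_toD2 : (piW B).comp (toD2 B) = jW B :=
  RingHom.ext fun x => TrivSqZeroExt.ext (by simp [algebraMap_eq_inl'])
    (by simp [algebraMap_eq_inl'])

theorem piW_comp_algebraMap :
    (piW B).comp (algebraMap (DualNumber B) (D2 B)) = qW 1 0 :=
  RingHom.ext fun x => TrivSqZeroExt.ext (by simp [algebraMap_eq_inl'])
    (by simp [algebraMap_eq_inl'])

theorem piW_comp_bcHom :
    (piW B).comp (bcHom (algebraMap B (DualNumber B))) = qW 0 1 :=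
  RingHom.ext fun x => TrivSqZeroExt.ext (by simp [algebraMap_eq_inl'])
    (by simp [algebraMap_eq_inl'])

theorem piW_comp_mulHom : (piW B).comp (mulHom B) = (jW B).comp (augD B) :=
  RingHom.ext fun x => TrivSqZeroExt.ext (by simp [algebraMap_eq_inl'])
    (by simp [algebraMap_eq_inl'])

theorem swapD2_comp_algebraMap :
    (swapD2 B).comp (algebraMap (DualNumber B) (D2 B)) = bcHom (algebraMap B (DualNumber B)) :=
  RingHom.ext fun x => D2_ext (by simp [algebraMap_eq_inl']) (by simp [algebraMap_eq_inl'])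
    (by simp [algebraMap_eq_inl']) (by simp [algebraMap_eq_inl'])

theorem swapD2_comp_bcHom :
    (swapD2 B).comp (bcHom (algebraMap B (DualNumber B))) = algebraMap (DualNumber B) (D2 B) :=
  RingHom.ext fun x => D2_ext (by simp [algebraMap_eq_inl']) (by simp [algebraMap_eq_inl'])
    (by simp [algebraMap_eq_inl']) (by simp [algebraMap_eq_inl'])

theorem swapD2_comp_mulHom : (swapD2 B).comp (mulHom B) = mulHom B :=
  RingHom.ext fun x => D2_ext (by simp) (by simp) (by simp) (by simp)

theorem swapD2_comp_toD2 : (swapD2 B).comp (toD2 B) = toD2 B :=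
  RingHom.ext fun x => D2_ext (by simp [algebraMap_eq_inl']) (by simp [algebraMap_eq_inl'])
    (by simp [algebraMap_eq_inl']) (by simp [algebraMap_eq_inl'])

/-- `B[ε] = B ×_W B[ε][ε']`. -/
theorem isFib_mul : IsFib (augD B) (mulHom B) (jW B) (piW B) where
  comm := piW_comp_mulHom.symm
  inj t h1 h2 := by
    have a := congrArg (fun z : D2 B => z.snd.snd) h2
    simp at a h1
    exact TrivSqZeroExt.ext h1 a
  glue x y h := by
    have a := congrArg TrivSqZeroExt.fst h
    have b := congrArg (fun z : W B => z.snd.1) h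
    have c := congrArg (fun z : W B => z.snd.2) h
    simp [algebraMap_eq_inl'] at a b c
    refine ⟨TrivSqZeroExt.inl x + TrivSqZeroExt.inr y.snd.snd, by simp, D2_ext ?_ ?_ ?_ ?_⟩
    · simp [a]
    · simp [← b]
    · simp [← c]
    · simp
  surj w := ⟨(TrivSqZeroExt.inl (TrivSqZeroExt.inl w.fst + TrivSqZeroExt.inr w.snd.1) +
      TrivSqZeroExt.inr (TrivSqZeroExt.inl w.snd.2)),
    TrivSqZeroExt.ext (by simp) (by simp)⟩

theorem piW_surjective : Function.Surjective (piW B) := (isFib_mul (B := B)).surj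

/-- The swap fixes the elements of `B[ε][ε']` whose image in `W` is symmetric. -/
theorem swapD2_of_fib (t : Fib (qW (1 : B) 1) (piW B)) :
    swapD2 B (fib2 _ _ t) = fib2 _ _ t := by
  have h := t.2
  obtain ⟨⟨v, y⟩, ht⟩ := t
  have e : qW (1 : B) 1 v = piW B y := ht
  have b := congrArg (fun z : W B => z.snd.1) e
  have c := congrArg (fun z : W B => z.snd.2) e
  simp at b c
  show swapD2 B y = y
  exact D2_ext (by simp) (by simp [← b, ← c]) (by simp [← b, ← c]) (by simp)

theorem qW_comp_scaleHom (b c d : B) : (qW b c).comp (scaleHom d) = qW (b * d) (c * d) :=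
  RingHom.ext fun x => TrivSqZeroExt.ext (by simp)
    (by simp; constructor <;> ring)

theorem scaleHom_algebraMap_comp_mulHom (b : B) :
    (scaleHom (algebraMap B (DualNumber B) b)).comp (mulHom B) = (mulHom B).comp (scaleHom b) :=
  RingHom.ext fun x => D2_ext (by simp) (by simp) (by simp) (by simp [mul_comm])

theorem scaleHom_eps_comp_bcHom :
    (scaleHom (DualNumber.eps : DualNumber B)).comp (bcHom (algebraMap B (DualNumber B))) =
      mulHom B :=
  RingHom.ext fun x => D2_ext (by simp) (by simp) (by simp) (by simp)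

variable {C : Type u} [CommRing C]

theorem bcHom_comp_scaleHom (h : B →+* C) (b : B) :
    (bcHom h).comp (scaleHom b) = (scaleHom (h b)).comp (bcHom h) :=
  RingHom.ext fun x => TrivSqZeroExt.ext (by simp) (by simp)

theorem bcHom_bcHom_comp_bcHom (h : B →+* C) :
    (bcHom (bcHom h)).comp (bcHom (algebraMap B (DualNumber B))) =
      (bcHom (algebraMap C (DualNumber C))).comp (bcHom h) :=
  RingHom.ext fun x => D2_ext (by simp) (by simp) (by simp) (by simp)

theorem bcHom_bcHom_comp_mulHom (h : B →+* C) :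
    (bcHom (bcHom h)).comp (mulHom B) = (mulHom C).comp (bcHom h) :=
  RingHom.ext fun x => D2_ext (by simp) (by simp) (by simp) (by simp)

end Groth.L06.Lie
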